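import Mathlib

set_option autoImplicit false

/-! 2-adic arithmetic for the cyclic torus of order `(q ^ n - 1) / (q + 1)` of `SU_n(q)`,
`n = 2 * k`. -/

namespace Cfsg.Agent.Lib.Helper5.HalfTorus2

theorem v2_eq_one_of_mod_four (x : ℕ) (h : x % 4 = 2) : padicValNat 2 x = 1 := by
  obtain ⟨y, hy⟩ : ∃ y, x = 2 * y := ⟨x / 2, by omega⟩
  have hy2 : ¬ 2 ∣ y := by omega
  have hy0 : y ≠ 0 := by omega
  rw [hy, padicValNat.mul (by norm_num) hy0, padicValNat_self,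
    padicValNat.eq_zero_of_not_dvd hy2]

theorem v2_min (q : ℕ) (hodd : Odd q) (hq : 1 < q) :
    padicValNat 2 (q + 1) = 1 ∨ padicValNat 2 (q - 1) = 1 := by
  obtain ⟨t, ht⟩ := hodd
  rcases Nat.even_or_odd t with ⟨s, hs⟩ | ⟨s, hs⟩
  · left
    apply v2_eq_one_of_mod_four
    omega
  · right
    apply v2_eq_one_of_mod_four
    omega

theorem odd_pow_mod_four (q k : ℕ) (hodd : Odd q) (hk : Even k) : q ^ k % 4 = 1 := by
  obtain ⟨j, hj⟩ := hk
  have h1 : q ^ k = (q ^ j) ^ 2 := by rw [hj, ← two_mul, mul_comm, pow_mul]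
  have h2 : Odd (q ^ j) := hodd.pow
  obtain ⟨t, ht⟩ := h2
  rw [h1, ht]
  have : (2 * t + 1) ^ 2 = 4 * (t * t + t) + 1 := by ring
  rw [this]
  omega

theorem v2_pow_add_one (q k : ℕ) (hodd : Odd q) (hk : Even k) :
    padicValNat 2 (q ^ k + 1) = 1 := by
  apply v2_eq_one_of_mod_four
  have := odd_pow_mod_four q k hodd hk
  omega

theorem v2_pos_of_even (x : ℕ) (hx : x ≠ 0) (h : 2 ∣ x) : 1 ≤ padicValNat 2 x := by
  have : 2 ^ 1 ∣ x := by simpa using h
  exact (padicValNat_dvd_iff_le hx).mp this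

theorem v2_le_of_dvd (x y : ℕ) (hy : y ≠ 0) (h : x ∣ y) : padicValNat 2 x ≤ padicValNat 2 y := by
  have h1 : 2 ^ padicValNat 2 x ∣ x := pow_padicValNat_dvd
  exact (padicValNat_dvd_iff_le hy).mp (h1.trans h)

/-- LTE for `2` -/
theorem v2_pow_sub_one (q n : ℕ) (hodd : Odd q) (hq : 1 < q) (hn : n ≠ 0) (hne : Even n) :
    padicValNat 2 (q ^ n - 1) + 1 =
      padicValNat 2 (q + 1) + padicValNat 2 (q - 1) + padicValNat 2 n := by
  obtain ⟨t, ht⟩ := hodd
  have := padicValNat.pow_two_sub_pow (x := q) (y := 1) hq (by omega) (by omega) hn hne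
  rwa [one_pow] at this

theorem geom_sum_mod_two (q : ℕ) (hodd : Odd q) (k : ℕ) :
    (∑ i ∈ Finset.range k, q ^ i) % 2 = k % 2 := by
  induction k with
  | zero => simp
  | succ j ih =>
    rw [Finset.sum_range_succ, Nat.add_mod, ih]
    have h1 : Odd (q ^ j) := hodd.pow
    have h2 : q ^ j % 2 = 1 := Nat.odd_iff.mp h1
    rw [h2]
    omega

theorem v2_pow_sub_one_odd (q k : ℕ) (hodd : Odd q) (hq : 1 < q) (hk : Odd k) :
    padicValNat 2 (q ^ k - 1) = padicValNat 2 (q - 1) := by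
  have h1 : (∑ i ∈ Finset.range k, q ^ i) * (q - 1) = q ^ k - 1 := by
    have h2 : 1 ≤ q ^ k := Nat.one_le_pow _ _ (by omega)
    zify [h2, (show 1 ≤ q by omega)]
    exact geom_sum_mul (q : ℤ) k
  have h3 : (∑ i ∈ Finset.range k, q ^ i) % 2 = 1 := by
    rw [geom_sum_mod_two q hodd k]; exact Nat.odd_iff.mp hk
  have h4 : ¬ 2 ∣ ∑ i ∈ Finset.range k, q ^ i := by omega
  have h5 : (∑ i ∈ Finset.range k, q ^ i) ≠ 0 := by omega
  rw [← h1, padicValNat.mul h5 (by omega), padicValNat.eq_zero_of_not_dvd h4, zero_add]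

theorem pow_two_mul_sub_one (q k : ℕ) (hq : 1 ≤ q) :
    q ^ (2 * k) - 1 = (q ^ k - 1) * (q ^ k + 1) := by
  have h2 : 1 ≤ q ^ k := Nat.one_le_pow _ _ hq
  have h3 : 1 ≤ q ^ (2 * k) := Nat.one_le_pow _ _ hq
  zify [h2, h3]
  ring

/-- the arithmetic behind non-existence -/
theorem nonexist_arith (q k o : ℕ) (hodd : Odd q) (hq : 1 < q) (hk : 1 ≤ k) (M : ℕ)
    (hM : M * (q + 1) = q ^ (2 * k) - 1) (ho : o ∣ M)
    (hN : o / Nat.gcd o (q + 1) = if Even k then q ^ k + 1 else q ^ k - 1) :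
    padicValNat 2 (q + 1) < padicValNat 2 (2 * k) := by
  have hqk : 2 ≤ q ^ k := by
    calc 2 ≤ q := hq
      _ = q ^ 1 := (pow_one q).symm
      _ ≤ q ^ k := Nat.pow_le_pow_right (by omega) hk
  have hq2k : 2 ≤ q ^ (2 * k) := by
    calc 2 ≤ q := hq
      _ = q ^ 1 := (pow_one q).symm
      _ ≤ q ^ (2 * k) := Nat.pow_le_pow_right (by omega) (by omega)
  have hM0 : M ≠ 0 := by
    rintro rfl
    rw [zero_mul] at hM
    omega
  have ho0 : o ≠ 0 := by
    rintro rfl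
    exact hM0 (Nat.eq_zero_of_zero_dvd ho)
  have hlte := v2_pow_sub_one q (2 * k) hodd hq (by omega) ⟨k, by ring⟩
  have hMv : padicValNat 2 M + padicValNat 2 (q + 1) = padicValNat 2 (q ^ (2 * k) - 1) := by
    rw [← hM, padicValNat.mul hM0 (by omega)]
  obtain ⟨G, hG⟩ : ∃ G, G = Nat.gcd o (q + 1) := ⟨_, rfl⟩
  obtain ⟨N, hNd⟩ : ∃ N, N = o / G := ⟨_, rfl⟩
  have hGpos : 0 < G := by rw [hG]; exact Nat.gcd_pos_of_pos_left _ (Nat.pos_of_ne_zero ho0)
  have hGo : G ∣ o := by rw [hG]; exact Nat.gcd_dvd_left _ _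
  have hGq : G ∣ q + 1 := by rw [hG]; exact Nat.gcd_dvd_right _ _
  have hoN : o = N * G := by rw [hNd, Nat.div_mul_cancel hGo]
  have hcop : Nat.Coprime N ((q + 1) / G) := by
    rw [hNd, hG]
    exact Nat.coprime_div_gcd_div_gcd (by rw [← hG]; exact hGpos)
  rw [← hG, ← hNd] at hN
  have hN2 : 2 ∣ N := by
    obtain ⟨t, ht⟩ : Odd (q ^ k) := hodd.pow
    rw [hN]
    split_ifs <;> omega
  have hN0 : N ≠ 0 := by
    rintro rfl
    rw [zero_mul] at hoN
    exact ho0 hoN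
  have hnot2 : ¬ 2 ∣ (q + 1) / G := by
    intro h
    have := Nat.eq_one_of_dvd_coprimes hcop hN2 h
    omega
  have hq1 : q + 1 = G * ((q + 1) / G) := (Nat.mul_div_cancel' hGq).symm
  have hvG : padicValNat 2 (q + 1) = padicValNat 2 G := by
    have h0 : (q + 1) / G ≠ 0 := by
      intro h
      rw [h, mul_zero] at hq1
      omega
    conv_lhs => rw [hq1]
    rw [padicValNat.mul (by omega) h0, padicValNat.eq_zero_of_not_dvd hnot2, add_zero]
  have hvo : padicValNat 2 o = padicValNat 2 N + padicValNat 2 (q + 1) := by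
    rw [hoN, padicValNat.mul hN0 (by omega), hvG]
  have hle := v2_le_of_dvd o M hM0 ho
  have hc1 : 1 ≤ padicValNat 2 (q - 1) := by
    obtain ⟨t, ht⟩ := hodd
    exact v2_pos_of_even _ (by omega) (by omega)
  by_cases hke : Even k
  · rw [if_pos hke] at hN
    have hvN : padicValNat 2 N = 1 := by rw [hN]; exact v2_pow_add_one q k hodd hke
    have hb : 2 ≤ padicValNat 2 (2 * k) := by
      obtain ⟨j, hj⟩ := hke
      have : 2 ^ 2 ∣ 2 * k := ⟨j, by rw [hj]; ring⟩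
      exact (padicValNat_dvd_iff_le (by omega)).mp this
    rcases v2_min q hodd hq with h | h <;> omega
  · rw [if_neg hke] at hN
    have hvN : padicValNat 2 N = padicValNat 2 (q - 1) := by
      rw [hN]; exact v2_pow_sub_one_odd q k hodd hq (Nat.not_even_iff_odd.mp hke)
    omega

/-- the arithmetic behind existence -/
theorem exist_arith (q k : ℕ) (hodd : Odd q) (hq : 1 < q) (hk : 1 ≤ k) (M : ℕ)
    (hM : M * (q + 1) = q ^ (2 * k) - 1)
    (h : padicValNat 2 (q + 1) < padicValNat 2 (2 * k)) :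
    Even k ∧ ∃ o, o ∣ M ∧ o / Nat.gcd o (q + 1) = q ^ k + 1 := by
  obtain ⟨t, ht⟩ := hodd
  have ha1 : 1 ≤ padicValNat 2 (q + 1) := v2_pos_of_even _ (by omega) (by omega)
  have hc1 : 1 ≤ padicValNat 2 (q - 1) := v2_pos_of_even _ (by omega) (by omega)
  have hodd : Odd q := ⟨t, ht⟩
  have hke : Even k := by
    have h1 : 2 ^ padicValNat 2 (2 * k) ∣ 2 * k := pow_padicValNat_dvd
    have h2 : 2 ^ 2 ∣ 2 ^ padicValNat 2 (2 * k) := pow_dvd_pow 2 (by omega)
    obtain ⟨j, hj⟩ := h2.trans h1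
    exact ⟨j, by omega⟩
  refine ⟨hke, ?_⟩
  obtain ⟨a, ha⟩ : ∃ a, a = padicValNat 2 (q + 1) := ⟨_, rfl⟩
  rw [← ha] at h ha1
  have hqk : 2 ≤ q ^ k := by
    calc 2 ≤ q := hq
      _ = q ^ 1 := (pow_one q).symm
      _ ≤ q ^ k := Nat.pow_le_pow_right (by omega) hk
  -- `(q + 1) ∣ q ^ k - 1`
  have hdvd1 : q + 1 ∣ q ^ k - 1 := by
    obtain ⟨j, hj⟩ := hke
    have h1 : q ^ k = (q ^ 2) ^ j := by rw [hj, ← two_mul, pow_mul]
    rw [h1]
    have h2 : q ^ 2 - 1 ∣ (q ^ 2) ^ j - 1 := Nat.sub_one_dvd_pow_sub_one _ _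
    have h3 : q + 1 ∣ q ^ 2 - 1 := by
      refine ⟨q - 1, ?_⟩
      have : 1 ≤ q ^ 2 := Nat.one_le_pow _ _ (by omega)
      zify [this, (show 1 ≤ q by omega)]
      ring
    exact h3.trans h2
  obtain ⟨Q, hQ⟩ := hdvd1
  have hQ0 : Q ≠ 0 := by
    rintro rfl
    rw [mul_zero] at hQ
    omega
  have hvQ : a ≤ padicValNat 2 Q := by
    have hlte := v2_pow_sub_one q k hodd hq (by omega) hke
    have h1 : padicValNat 2 (q ^ k - 1) = padicValNat 2 (q + 1) + padicValNat 2 Q := by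
      rw [hQ, padicValNat.mul (by omega) hQ0]
    have h2 : padicValNat 2 (2 * k) = 1 + padicValNat 2 k := by
      rw [padicValNat.mul (by norm_num) (by omega), padicValNat_self]
    omega
  have hdvd2 : 2 ^ a ∣ Q := (padicValNat_dvd_iff_le hQ0).mpr hvQ
  refine ⟨2 ^ a * (q ^ k + 1), ?_, ?_⟩
  · apply Nat.dvd_of_mul_dvd_mul_right (show 0 < q + 1 by omega)
    rw [hM, pow_two_mul_sub_one q k (by omega), hQ]
    obtain ⟨Q', hQ'⟩ := hdvd2
    refine ⟨Q', ?_⟩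
    rw [hQ']
    ring
  · -- the gcd
    have h2a : 2 ^ a ∣ q + 1 := by rw [ha]; exact pow_padicValNat_dvd
    obtain ⟨c, hc⟩ := h2a
    have hc2 : ¬ 2 ∣ c := by
      rintro ⟨c', hc'⟩
      have h1 : 2 ^ (a + 1) ∣ q + 1 := ⟨c', by rw [hc, hc']; ring⟩
      have := (padicValNat_dvd_iff_le (by omega)).mp h1
      omega
    have hgcd : Nat.gcd (q ^ k + 1) c = 1 := by
      have h1 : Nat.gcd (q ^ k + 1) c ∣ q ^ k + 1 := Nat.gcd_dvd_left _ _
      have h2 : Nat.gcd (q ^ k + 1) c ∣ c := Nat.gcd_dvd_right _ _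
      have h3 : Nat.gcd (q ^ k + 1) c ∣ q ^ k - 1 := by
        rw [hQ, hc]
        exact h2.trans ⟨2 ^ a * Q, by ring⟩
      have h4 : Nat.gcd (q ^ k + 1) c ∣ 2 := by
        have := Nat.dvd_sub h1 h3
        have e : q ^ k + 1 - (q ^ k - 1) = 2 := by omega
        rwa [e] at this
      rcases (Nat.dvd_prime Nat.prime_two).mp h4 with h5 | h5
      · exact h5
      · rw [h5] at h2
        exact absurd h2 hc2
    rw [hc, Nat.gcd_mul_left, hgcd, mul_one, Nat.mul_div_cancel_left _ (by positivity)]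

end Cfsg.Agent.Lib.Helper5.HalfTorus2
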