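import Mathlib
import Cfsg.Agent.Lib.Helper5.U43.Cent
import Cfsg.Agent.Lib.Helper5.CommP.Core
import Cfsg.Agent.Lib.Helper5.CommP.Orbit

set_option autoImplicit false

/-! The centralizer, in the unitary group of even degree `n`, of a unitary matrix of prime order
`r` where `-q` has order `n` modulo `r`: it is a cyclic torus, parametrized by a scalar `μ`. -/

namespace Cfsg.Agent.Lib.Helper5.HalfTorus2

open Matrix Module Cfsg.Agent.Lib.Helper5.U43 Cfsg.Agent.Lib.Helper5.CommP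

variable {K : Type*} [Field K]

/-- the cyclic successor on `Fin n` -/
def cyc {n : ℕ} (hn : 0 < n) (j : Fin n) : Fin n := ⟨(j.val + 1) % n, Nat.mod_lt _ hn⟩

theorem sum_neg_pow (q n M : ℕ) (hne : Even n) (hq : 1 ≤ q) (hM : M * (q + 1) = q ^ n - 1) :
    ∑ i ∈ Finset.range n, (-(q : ℤ)) ^ i = -(M : ℤ) := by
  have h1 := geom_sum_mul (-(q : ℤ)) n
  rw [hne.neg_pow] at h1
  have h2 : ((M : ℤ)) * ((q : ℤ) + 1) = (q : ℤ) ^ n - 1 := by
    have h3 : 1 ≤ q ^ n := Nat.one_le_pow _ _ hq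
    have : ((M * (q + 1) : ℕ) : ℤ) = ((q ^ n - 1 : ℕ) : ℤ) := by rw [hM]
    rw [Nat.cast_sub h3] at this
    push_cast at this
    exact this
  have h4 : ((q : ℤ) + 1) ≠ 0 := by positivity
  apply mul_right_cancel₀ h4
  rw [neg_mul, h2, ← h1]
  ring

theorem prod_iterate (ψ : K →+* K) (q : ℕ) (hψ : ∀ x, ψ x = x ^ q) (μ : K) (hμ : μ ≠ 0) (n : ℕ) :
    ∏ i ∈ Finset.range n, (fun x => (ψ x)⁻¹)^[i] μ =
      μ ^ (∑ i ∈ Finset.range n, (-(q : ℤ)) ^ i) := by
  induction n with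
  | zero => simp
  | succ k ih =>
    rw [Finset.prod_range_succ, Finset.sum_range_succ, ih, zpow_add₀ hμ, sigma_iterate ψ q hψ]

theorem cyc_val_of_lt {n : ℕ} (hn : 0 < n) (j : Fin n) (h : j.val + 1 < n) :
    (cyc hn j).val = j.val + 1 := by
  show (j.val + 1) % n = j.val + 1
  exact Nat.mod_eq_of_lt h

theorem cyc_val_of_eq {n : ℕ} (hn : 0 < n) (j : Fin n) (h : j.val + 1 = n) :
    (cyc hn j).val = 0 := by
  show (j.val + 1) % n = 0
  rw [h, Nat.mod_self]

/-- the structure of the centralizer -/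
theorem torus_structure [IsAlgClosed K] (ψ : K →+* K) (hψs : Function.Surjective ψ) (q : ℕ)
    (hq : 1 ≤ q) (hψ : ∀ x, ψ x = x ^ q) (n : ℕ) (hn2 : 2 ≤ n) (hne : Even n)
    (S A : Matrix (Fin n) (Fin n) K) (hUS : Sᵀ * S.map ψ = 1) (hUA : Aᵀ * A.map ψ = 1)
    (hSA : S * A = A * S) (r : ℕ) (hr : r.Prime) (hrK : (r : K) ≠ 0) (hrq : ¬ r ∣ q)
    (hSr : S ^ r = 1) (hS1 : S ≠ 1)
    (hnd : ∀ k, 1 ≤ k → k ≤ n - 1 → ¬ (r : ℤ) ∣ (-(q : ℤ)) ^ k - 1)
    (hrn : r ∣ q ^ n - 1) (M : ℕ) (hM : M * (q + 1) = q ^ n - 1) :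
    ∃ μ : K, μ ≠ 0 ∧ A.det * μ ^ M = 1 ∧
      ∀ j : ℕ, (∃ c : K, A ^ j = c • (1 : Matrix (Fin n) (Fin n) K)) ↔
        μ ^ ((q + 1) * j) = 1 := by
  have hn0 : 0 < n := by omega
  -- an eigenvalue `ζ ≠ 1`
  obtain ⟨ζ, hζ1, hζr, hfr⟩ := exists_eigenvalue_ne_one (Matrix.toLin' S) r hrK
    (by rw [← Matrix.toLin'_pow, hSr, Matrix.toLin'_one]; rfl) (by
      intro h
      apply hS1
      apply Matrix.toLin'.injective
      rw [h, Matrix.toLin'_one]; rfl)
  have hfr' : Fact r.Prime := ⟨hr⟩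
  have hord : orderOf ζ = r := orderOf_eq_prime hζr hζ1
  have hζ0 : ζ ≠ 0 := by
    rintro rfl
    rw [zero_pow hr.ne_zero] at hζr
    exact zero_ne_one hζr
  obtain ⟨σ, hσ⟩ : ∃ σ : K → K, σ = fun x => (ψ x)⁻¹ := ⟨_, rfl⟩
  obtain ⟨z, hzd⟩ : ∃ z : Fin n → K, z = fun i => σ^[i.val] ζ := ⟨_, rfl⟩
  have hzpow : ∀ i : ℕ, σ^[i] ζ = ζ ^ ((-(q : ℤ)) ^ i) := by
    intro i; rw [hσ]; exact sigma_iterate ψ q hψ ζ i
  have hz : Function.Injective z := by
    intro i j h
    rw [hzd] at h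
    simp only [hzpow] at h
    have hM' : n = (n - 1) + 1 := by omega
    have hinj := injOn_of_not_dvd (K := K) r hr q hrq (n - 1) hnd ζ hζ0 hord
    rw [← hM'] at hinj
    apply Fin.ext
    exact hinj (by simp) (by simp) h
  -- `ζ ^ (q ^ n) = ζ`
  have hζn : σ^[n] ζ = ζ := by
    rw [hzpow, hne.neg_pow]
    have h1 : 1 ≤ q ^ n := Nat.one_le_pow _ _ hq
    obtain ⟨t, ht⟩ := hrn
    have h2 : q ^ n = r * t + 1 := by omega
    have h3 : ((q : ℤ)) ^ n = ((q ^ n : ℕ) : ℤ) := by push_cast; rfl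
    rw [h3, zpow_natCast, h2, pow_succ, pow_mul, hζr, one_pow, one_mul]
  have hzs : ∀ j, z (cyc hn0 j) = (ψ (z j))⁻¹ := by
    intro j
    rw [hzd]
    show σ^[(cyc hn0 j).val] ζ = (ψ (σ^[j.val] ζ))⁻¹
    rcases Nat.lt_or_ge (j.val + 1) n with h | h
    · rw [cyc_val_of_lt hn0 j h, Function.iterate_succ_apply', hσ]
    · have h' : j.val + 1 = n := by have := j.isLt; omega
      rw [cyc_val_of_eq hn0 j h', Function.iterate_zero, id]
      have : σ (σ^[j.val] ζ) = ζ := by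
        have h1 := Function.iterate_succ_apply' σ j.val ζ
        have h2 : σ^[j.val + 1] ζ = ζ := by rw [h', hζn]
        exact h1.symm.trans h2
      have h3 : σ (σ^[j.val] ζ) = (ψ (σ^[j.val] ζ))⁻¹ := by rw [hσ]
      rw [← h3, this]
  -- eigenvectors
  have hex : ∀ i : Fin n, ∃ v : Fin n → K, v ≠ 0 ∧ S *ᵥ v = z i • v := by
    intro i
    have h1 : 1 ≤ finrank K (Module.End.eigenspace (Matrix.toLin' S) (z i)) := by
      rw [hzd, hσ]
      exact hfr.trans (finrank_eigenspace_le_iterate ψ hψs S hUS ζ hζ0 i.val)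
    obtain ⟨v, hvE, hv0⟩ : ∃ v ∈ Module.End.eigenspace (Matrix.toLin' S) (z i), v ≠ 0 := by
      apply Submodule.exists_mem_ne_zero_of_ne_bot
      intro h
      rw [h, finrank_bot] at h1
      omega
    refine ⟨v, hv0, ?_⟩
    have h2 := Module.End.mem_eigenspace_iff.mp hvE
    rwa [Matrix.toLin'_apply] at h2
  choose u hu0 hu using hex
  have hdet := isUnit_det_colMat S u z hz hu0 hu
  obtain ⟨d, hd⟩ := exists_diag_of_commute S A u z hz hu0 hu hSA
  have hAu : ∀ j, A *ᵥ u j = d j • u j := (mul_colMat_iff A u d).mpr hd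
  -- the Gram matrix
  have hgram0 : ∀ i j, i ≠ cyc hn0 j → u i ⬝ᵥ (fun k => ψ (u j k)) = 0 := by
    intro i j hij
    have h1 := herm_eig ψ S hUS (u i) (u j) (z i) (z j) (hu i) (hu j)
    have h2 : z i * ψ (z j) ≠ 1 := by
      intro h
      apply hij
      apply hz
      rw [hzs]
      exact eq_inv_of_mul_eq_one_left h
    have h4 : (z i * ψ (z j) - 1) * (u i ⬝ᵥ (fun k => ψ (u j k))) = 0 := by
      rw [sub_mul, one_mul, h1, sub_self]
    rcases mul_eq_zero.mp h4 with h | h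
    · exact absurd (sub_eq_zero.mp h) h2
    · exact h
  have hgram1 : ∀ j, u (cyc hn0 j) ⬝ᵥ (fun k => ψ (u j k)) ≠ 0 := by
    intro j h
    have hall : ∀ i, u i ⬝ᵥ (fun k => ψ (u j k)) = 0 := by
      intro i
      by_cases hi : i = cyc hn0 j
      · rw [hi]; exact h
      · exact hgram0 i j hi
    have h1 : (colMat u)ᵀ *ᵥ (fun k => ψ (u j k)) = 0 := by
      ext i
      rw [Pi.zero_apply, ← hall i]
      rfl
    have h2 : ((colMat u)ᵀ).det ≠ 0 := by
      rw [Matrix.det_transpose]; exact hdet.ne_zero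
    have h3 := Matrix.eq_zero_of_mulVec_eq_zero h2 h1
    apply hu0 j
    ext k
    have := congrFun h3 k
    simp only [Pi.zero_apply] at this ⊢
    exact (map_eq_zero ψ).mp this
  have hds : ∀ j, d (cyc hn0 j) * ψ (d j) = 1 := by
    intro j
    have h1 := herm_eig ψ A hUA (u (cyc hn0 j)) (u j) (d (cyc hn0 j)) (d j) (hAu _) (hAu j)
    have h4 : (d (cyc hn0 j) * ψ (d j) - 1) * (u (cyc hn0 j) ⬝ᵥ (fun k => ψ (u j k))) = 0 := by
      rw [sub_mul, one_mul, h1, sub_self]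
    rcases mul_eq_zero.mp h4 with h | h
    · exact sub_eq_zero.mp h
    · exact absurd h (hgram1 j)
  have hds' : ∀ j, d (cyc hn0 j) = σ (d j) := by
    intro j
    rw [hσ]
    exact eq_inv_of_mul_eq_one_left (hds j)
  obtain ⟨μ, hμd⟩ : ∃ μ : K, μ = d ⟨0, hn0⟩ := ⟨_, rfl⟩
  have hμ0 : μ ≠ 0 := by
    intro h
    have h1 := hds ⟨0, hn0⟩
    rw [← hμd, h, map_zero, mul_zero] at h1
    exact zero_ne_one h1
  have hdi : ∀ (i : ℕ) (hi : i < n), d ⟨i, hi⟩ = σ^[i] μ := by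
    intro i
    induction i with
    | zero => intro hi; rw [Function.iterate_zero, id, hμd]
    | succ k ih =>
      intro hi
      have hk : k < n := by omega
      have h1 : cyc hn0 ⟨k, hk⟩ = ⟨k + 1, hi⟩ := by
        apply Fin.ext
        exact cyc_val_of_lt hn0 ⟨k, hk⟩ hi
      rw [← h1, hds', ih hk, Function.iterate_succ_apply']
  refine ⟨μ, hμ0, ?_, ?_⟩
  · -- the determinant
    have h1 := det_of_mul_colMat A u hdet d hd
    have h2 : ∏ j, d j = ∏ i ∈ Finset.range n, σ^[i] μ := by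
      rw [← Fin.prod_univ_eq_prod_range]
      apply Finset.prod_congr rfl
      intro j _
      exact hdi j.val j.isLt
    rw [h1, h2, hσ, prod_iterate ψ q hψ μ hμ0, sum_neg_pow q n M hne hq hM, _root_.zpow_neg,
      zpow_natCast, inv_mul_cancel₀ (pow_ne_zero _ hμ0)]
  · intro j
    constructor
    · rintro ⟨c, hc⟩
      have h1 : ∀ i, d i ^ j = c := by
        intro i
        have h2 := pow_mul_colMat A u d hd j
        rw [hc, Matrix.smul_mul, Matrix.one_mul] at h2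
        have h3 := (mul_colMat_iff (c • (1 : Matrix (Fin n) (Fin n) K)) u (fun j' => d j' ^ j)).mpr
          (by rw [Matrix.smul_mul, Matrix.one_mul]; exact h2) i
        rw [Matrix.smul_mulVec, Matrix.one_mulVec] at h3
        exact (smul_left_injective K (hu0 i) h3).symm
      have h2 := h1 ⟨0, hn0⟩
      have h3 := h1 (cyc hn0 ⟨0, hn0⟩)
      rw [hds', ← hμd, hσ] at h3
      rw [← hμd] at h2
      simp only at h3
      rw [hψ, inv_pow] at h3
      have h4 : (μ ^ q) ^ j ≠ 0 := pow_ne_zero _ (pow_ne_zero _ hμ0)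
      have h5 : c * (μ ^ q) ^ j = 1 := by rw [← h3, inv_mul_cancel₀ h4]
      rw [← h2] at h5
      rw [← h5]
      ring
    · intro h
      have hall : ∀ (i : ℕ) (hi : i < n), d ⟨i, hi⟩ ^ j = μ ^ j := by
        intro i
        induction i with
        | zero => intro hi; rw [hμd]
        | succ k ih =>
          intro hi
          have hk : k < n := by omega
          have h1 : cyc hn0 ⟨k, hk⟩ = ⟨k + 1, hi⟩ := by
            apply Fin.ext
            exact cyc_val_of_lt hn0 ⟨k, hk⟩ hi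
          rw [← h1, hds', hσ]
          simp only
          rw [hψ, inv_pow, ← pow_mul, mul_comm q j, pow_mul, ih hk]
          have h2 : μ ^ j * (μ ^ j) ^ q = 1 := by
            rw [← h]; ring
          exact (eq_inv_of_mul_eq_one_left h2).symm
      exact ⟨μ ^ j, pow_eq_smul_one A u hdet d hd j (μ ^ j) (fun i => hall i.val i.isLt)⟩

end Cfsg.Agent.Lib.Helper5.HalfTorus2
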