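import Mathlib
import Cfsg.Prelude.Def_Classical
import Cfsg.Agent.Lib.Helper5.HalfTorus2.TorusK
import Cfsg.Agent.Lib.Helper5.CommP.Lift
import Cfsg.Agent.Lib.Helper5.SpecU3.Crit
import Cfsg.Agent.Lib.Helper5.HermCenter
import Cfsg.Agent.Lib.Helper5.Herm

set_option autoImplicit false

/-! The order of an element of `PSU_n(q)`, `n` even, whose order is divisible by a prime `r`
modulo which `-q` has order `n`: it is `o / gcd(o, q + 1)` for a divisor `o` of
`(q ^ n - 1) / (q + 1)`. -/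

namespace Cfsg.Agent.Lib.Helper5.HalfTorus2

open Matrix Cfsg.Agent.Lib.Helper5.HermCenter Cfsg.Agent.Lib.Helper5.Herm
  Cfsg.Agent.Lib.Helper5.CommP Cfsg.Agent.Lib.Helper5.SpecU3

variable {F : Type*} [Field F] [Fintype F] {q : ℕ} (hF : Fintype.card F = q ^ 2)

omit [Fintype F] in
theorem isU_map_ext {K : Type*} [Field K] [Algebra F K] (ψ : K →+* K) (hψ : ∀ x, ψ x = x ^ q)
    {n : ℕ} (B : Matrix (Fin n) (Fin n) F) (hUB : IsU q B) :
    (B.map (algebraMap F K))ᵀ * (B.map (algebraMap F K)).map ψ = 1 := by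
  have hmapone : (1 : Matrix (Fin n) (Fin n) F).map (algebraMap F K) = 1 :=
    Matrix.map_one _ (map_zero _) (map_one _)
  have h1 : (Bᵀ * B.map (· ^ q)).map (algebraMap F K) = 1 := by
    rw [show Bᵀ * B.map (· ^ q) = 1 from hUB, hmapone]
  rw [Matrix.map_mul, Matrix.transpose_map] at h1
  rw [← h1]
  congr 1
  ext i j
  simp only [Matrix.map_apply, hψ, map_pow]

omit [Fintype F] in
theorem scalar_descent {K : Type*} [Field K] [Algebra F K] {n : ℕ} (hn : 0 < n)
    (X : Matrix (Fin n) (Fin n) F) :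
    (∃ z : F, X = z • (1 : Matrix (Fin n) (Fin n) F)) ↔
      ∃ c : K, X.map (algebraMap F K) = c • (1 : Matrix (Fin n) (Fin n) K) := by
  have hmapone : (1 : Matrix (Fin n) (Fin n) F).map (algebraMap F K) = 1 :=
    Matrix.map_one _ (map_zero _) (map_one _)
  constructor
  · rintro ⟨z, hz⟩
    refine ⟨algebraMap F K z, ?_⟩
    rw [hz, Matrix.map_smul' (algebraMap F K) z 1 (map_mul _), hmapone]
  · rintro ⟨c, hc⟩
    refine ⟨X ⟨0, hn⟩ ⟨0, hn⟩, ?_⟩
    apply Matrix.map_injective (algebraMap F K).injective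
    show X.map (algebraMap F K) =
      (X ⟨0, hn⟩ ⟨0, hn⟩ • (1 : Matrix (Fin n) (Fin n) F)).map (algebraMap F K)
    rw [Matrix.map_smul' (algebraMap F K) _ 1 (map_mul _), hmapone, hc]
    have h1 := congrFun (congrFun hc ⟨0, hn⟩) ⟨0, hn⟩
    rw [Matrix.map_apply, Matrix.smul_apply, Matrix.one_apply_eq, smul_eq_mul, mul_one] at h1
    rw [h1]

include hF in
theorem orderOf_psu_of_ppd (p : ℕ) [Fact p.Prime] [CharP F p] {n : ℕ} (hn2 : 2 ≤ n)
    (hne : Even n) (g : Cfsg.PSU n F q) (r : ℕ) (hr : r.Prime) (hrp : r ≠ p)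
    (hrg : r ∣ orderOf g)
    (hnd : ∀ k, 1 ≤ k → k ≤ n - 1 → ¬ (r : ℤ) ∣ (-(q : ℤ)) ^ k - 1)
    (hrn : r ∣ q ^ n - 1) (M : ℕ) (hM : M * (q + 1) = q ^ n - 1) :
    ∃ o : ℕ, o ∣ M ∧ orderOf g = o / Nat.gcd o (q + 1) := by
  classical
  have hpp : p.Prime := Fact.out
  obtain ⟨p', e, hp', hcp', hq⟩ := exists_char_pow hF
  have hpeq : p' = p := by
    have hcpp : CharP F p := by assumption
    exact CharP.eq F hcp' hcpp
  subst hpeq
  have hq2 : 2 ≤ q := two_le_q hF
  have hq0 : 0 < q := by omega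
  have hn0 : 0 < n := by omega
  obtain ⟨A, rfl⟩ := QuotientGroup.mk_surjective g
  obtain ⟨Am, hAm⟩ : ∃ Am : Matrix (Fin n) (Fin n) F,
      Am = ((A : Matrix.SpecialLinearGroup (Fin n) F) : Matrix (Fin n) (Fin n) F) := ⟨_, rfl⟩
  have hUA : IsU q Am := by rw [hAm]; exact (mem_SU_iff hF A.1).mp A.2
  have hdetA : Am.det = 1 := by rw [hAm]; exact A.1.2
  have hmk : ∀ j : ℕ, ((A : Cfsg.PSU n F q)) ^ j = 1 ↔
      ∃ z : F, Am ^ j = z • (1 : Matrix (Fin n) (Fin n) F) := by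
    intro j; rw [hAm]; exact mk_pow_eq_one_iff_SU hF A j
  obtain ⟨N, hN⟩ : ∃ N, N = orderOf (A : Cfsg.PSU n F q) := ⟨_, rfl⟩
  rw [← hN] at hrg ⊢
  have hNpos : 0 < N := by rw [hN]; exact orderOf_pos _
  obtain ⟨N', hN'⟩ := hrg
  have hN'pos : 0 < N' := by
    rcases Nat.eq_zero_or_pos N' with h | h
    · rw [h, mul_zero] at hN'; omega
    · exact h
  have hN'lt : N' < N := by
    rw [hN']
    have := hr.two_le
    nlinarith
  obtain ⟨z, hz⟩ := (hmk N).mp (by rw [hN]; exact pow_orderOf_eq_one _)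
  obtain ⟨B, hB⟩ : ∃ B, B = Am ^ N' := ⟨_, rfl⟩
  have hBr : B ^ r = z • (1 : Matrix (Fin n) (Fin n) F) := by
    rw [hB, ← pow_mul, mul_comm, ← hN', hz]
  have hBns : ¬ ∃ z' : F, B = z' • (1 : Matrix (Fin n) (Fin n) F) := by
    intro h
    rw [hB] at h
    have h1 := (hmk N').mpr h
    have h2 := orderOf_dvd_of_pow_eq_one h1
    rw [← hN] at h2
    have := Nat.le_of_dvd hN'pos h2
    omega
  have hUB : IsU q B := by rw [hB]; exact isU_pow hF hUA N'
  have hzq : z ^ (q + 1) = 1 := by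
    apply scalar_norm_of_isU (m := n) (q := q) hn0 z
    rw [← hBr]
    exact isU_pow hF hUB r
  -- `r` is prime to `q + 1`
  have hrq1 : ¬ r ∣ q + 1 := by
    intro h
    apply hnd 1 (le_refl _) (by omega)
    rw [pow_one]
    have : -(q : ℤ) - 1 = -(((q + 1 : ℕ)) : ℤ) := by push_cast; ring
    rw [this, dvd_neg]
    exact Int.natCast_dvd_natCast.mpr h
  have hcop : Nat.Coprime r (q + 1) := (Nat.Prime.coprime_iff_not_dvd hr).mpr hrq1
  obtain ⟨r', -, hr'⟩ := Nat.exists_mul_mod_eq_one_of_coprime hcop (by omega)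
  obtain ⟨d, hd⟩ : ∃ d, d = z ^ r' := ⟨_, rfl⟩
  have hdr : d ^ r = z := by
    have h1 := Nat.div_add_mod (r * r') (q + 1)
    rw [hr'] at h1
    rw [hd, ← pow_mul, mul_comm r' r, ← h1, pow_succ, pow_mul, hzq, one_pow, one_mul]
  have hdq : d ^ (q + 1) = 1 := by rw [hd, ← pow_mul, mul_comm, pow_mul, hzq, one_pow]
  have hd0 : d ≠ 0 := by
    rintro rfl
    rw [zero_pow (by omega)] at hdq
    exact zero_ne_one hdq
  obtain ⟨S, hS⟩ : ∃ S, S = d⁻¹ • B := ⟨_, rfl⟩
  have hSr : S ^ r = 1 := by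
    rw [hS, smul_pow, hBr, inv_pow, hdr, smul_smul, inv_mul_cancel₀, one_smul]
    intro h
    rw [h, zero_pow (by omega)] at hzq
    exact zero_ne_one hzq
  have hUS : IsU q S := by
    rw [hS, Matrix.smul_eq_diagonal_mul]
    apply isU_mul hF _ hUB
    apply isU_diagonal hF
    intro i
    rw [inv_pow, hdq, inv_one]
  have hS1 : S ≠ 1 := by
    intro h
    apply hBns
    refine ⟨d, ?_⟩
    have h1 : d • S = d • (1 : Matrix (Fin n) (Fin n) F) := by rw [h]
    rw [hS, smul_smul, mul_inv_cancel₀ hd0, one_smul] at h1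
    exact h1
  have hSA : S * Am = Am * S := by
    rw [hS, hB, Matrix.smul_mul, Matrix.mul_smul, ← pow_succ, ← pow_succ']
  -- pass to the algebraic closure
  let K := AlgebraicClosure F
  have hcK : CharP K p' := charP_of_injective_algebraMap (algebraMap F K).injective p'
  let ψ : K →+* K := iterateFrobenius K p' e
  have hψ : ∀ x, ψ x = x ^ q := fun x => by rw [hq]; exact iterateFrobenius_def p' e x
  have hψs : Function.Surjective ψ := by
    intro y
    obtain ⟨w, hw⟩ := IsAlgClosed.exists_pow_nat_eq y hq0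
    exact ⟨w, by rw [hψ, hw]⟩
  have hmapone : (1 : Matrix (Fin n) (Fin n) F).map (algebraMap F K) = 1 :=
    Matrix.map_one _ (map_zero _) (map_one _)
  have hmappow : ∀ (X : Matrix (Fin n) (Fin n) F) (j : ℕ),
      (X ^ j).map (algebraMap F K) = (X.map (algebraMap F K)) ^ j := by
    intro X j
    exact map_pow ((algebraMap F K).mapMatrix) X j
  have hrK : ((r : ℕ) : K) ≠ 0 := by
    intro h
    have h1 := (CharP.cast_eq_zero_iff K p' r).mp h
    exact hrp ((Nat.prime_dvd_prime_iff_eq hp' hr).mp h1).symm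
  have hrq : ¬ r ∣ q := by
    rw [hq]
    intro h
    have h1 := hr.dvd_of_dvd_pow h
    exact hrp ((Nat.prime_dvd_prime_iff_eq hr hp').mp h1)
  have hS1' : S.map (algebraMap F K) ≠ 1 := by
    intro h
    apply hS1
    apply Matrix.map_injective (algebraMap F K).injective
    show S.map (algebraMap F K) = (1 : Matrix (Fin n) (Fin n) F).map (algebraMap F K)
    rw [h, hmapone]
  have hdetK : (Am.map (algebraMap F K)).det = 1 := by
    have h3 := RingHom.map_det (algebraMap F K) Am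
    rw [RingHom.mapMatrix_apply] at h3
    rw [← h3, hdetA, map_one]
  obtain ⟨μ, hμ0, hμdet, hμ⟩ := torus_structure ψ hψs q (by omega) hψ n hn2 hne
    (S.map (algebraMap F K)) (Am.map (algebraMap F K)) (isU_map_ext ψ hψ S hUS)
    (isU_map_ext ψ hψ Am hUA) (by rw [← Matrix.map_mul, ← Matrix.map_mul, hSA]) r hr hrK hrq
    (by rw [← hmappow, hSr, hmapone]) hS1' hnd hrn M hM
  rw [hdetK, one_mul] at hμdet
  refine ⟨orderOf μ, orderOf_dvd_of_pow_eq_one hμdet, ?_⟩
  rw [hN, ← orderOf_pow' μ (show q + 1 ≠ 0 by omega)]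
  rw [orderOf_eq_orderOf_iff]
  intro j
  rw [hmk j, scalar_descent (K := K) hn0, hmappow, hμ j, pow_mul]

end Cfsg.Agent.Lib.Helper5.HalfTorus2
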