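import Mathlib
import Cfsg.Prelude.Def_Classical
import Cfsg.Agent.Lib.Helper5.SpecU3.LowerU4
import Cfsg.Agent.Lib.Helper5.SpecU3.Crit

set_option autoImplicit false
open Cfsg

/-! The cyclic torus of order `(q ^ (2k) - 1) / (q + 1)` of `SU_{2k}(q)`, realised on `L × L`
for the extension `L` of degree `k` of `F_{q²}`, with a hyperbolic hermitian trace form. -/

namespace Cfsg.Agent.Lib.Helper5.HalfTorus2

open Cfsg.Agent.Lib.Helper5.HermBridge Cfsg.Agent.Lib.Helper5.Herm
  Cfsg.Agent.Lib.Helper5.HermCenter Cfsg.Agent.Lib.Helper5.SpecSL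
  Cfsg.Agent.Lib.Helper5.SpecU3

variable {F : Type*} [Field F] [Fintype F] {q : ℕ} (hF : Fintype.card F = q ^ 2)
variable (L : Type*) [Field L] [Algebra F L] [Fintype L] {k : ℕ}
  (hL : Module.finrank F L = k)

include hF hL in
theorem card_L2 : Fintype.card L = q ^ (2 * k) := by
  have h := Module.card_eq_pow_finrank (K := F) (V := L)
  rw [hL, hF] at h
  rw [h, pow_mul]

include hF hL in
theorem pow_card_L2 (x : L) : x ^ (q ^ (2 * k)) = x := by
  rw [← card_L2 hF L hL]
  exact FiniteField.pow_card x

omit [Fintype L] in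
include hF in
theorem add_pow_qL (x y : L) : (x + y) ^ q = x ^ q + y ^ q := by
  have := add_pow_qK hF L 1 x y
  rwa [pow_one] at this

/-- the hyperbolic hermitian form on `L × L` -/
noncomputable def hypForm : (L × L) →ₛₗ[sigma hF] (L × L) →ₗ[F] F :=
  LinearMap.mk₂'ₛₗ (sigma hF) (RingHom.id F)
    (fun v w => Algebra.trace F L (v.1 ^ q * w.2) + (Algebra.trace F L (w.1 ^ q * v.2)) ^ q)
    (fun v v' w => by
      simp only [Prod.fst_add, Prod.snd_add]
      rw [add_pow_qL hF L, add_mul, map_add, mul_add, map_add, pow_q_add hF]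
      ring)
    (fun c v w => by
      simp only [Prod.smul_fst, Prod.smul_snd]
      rw [Algebra.smul_def, mul_pow, ← map_pow, mul_assoc, ← Algebra.smul_def, map_smul,
        mul_smul_comm, map_smul, smul_eq_mul, smul_eq_mul, mul_pow, sigma_apply, smul_eq_mul]
      ring)
    (fun v w w' => by
      simp only [Prod.fst_add, Prod.snd_add]
      rw [add_pow_qL hF L, add_mul, map_add, mul_add, map_add, pow_q_add hF]
      ring)
    (fun c v w => by
      simp only [Prod.smul_fst, Prod.smul_snd]
      rw [mul_smul_comm, map_smul, smul_pow, smul_mul_assoc, map_smul, smul_eq_mul, smul_eq_mul,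
        mul_pow, pow_q_pow_q hF, RingHom.id_apply, smul_eq_mul]
      ring)

theorem hypForm_apply (v w : L × L) :
    hypForm hF L v w =
      Algebra.trace F L (v.1 ^ q * w.2) + (Algebra.trace F L (w.1 ^ q * v.2)) ^ q := rfl

theorem hypForm_isSymm : (hypForm hF L).IsSymm := by
  refine ⟨fun v w => ?_⟩
  rw [hypForm_apply, hypForm_apply, sigma_apply, pow_q_add hF, pow_q_pow_q hF, add_comm]

include hL in
theorem hypForm_nondegenerate (hk : 1 ≤ k) : (hypForm hF L).Nondegenerate := by
  have hnd := _root_.traceForm_nondegenerate F L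
  have hq0 : q ≠ 0 := q_ne_zero hF
  have hleft : ∀ v : L × L, (∀ w, hypForm hF L v w = 0) → v = 0 := by
    intro v hv
    have h1 : v.1 = 0 := by
      have h2 : v.1 ^ q = 0 := by
        apply hnd.1
        intro y
        rw [Algebra.traceForm_apply]
        have := hv (0, y)
        rw [hypForm_apply] at this
        simpa [hq0] using this
      exact (pow_eq_zero_iff hq0).mp h2
    have h2 : v.2 = 0 := by
      apply hnd.2
      intro y
      rw [Algebra.traceForm_apply]
      have := hv (y ^ (q ^ (2 * k - 1)), 0)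
      rw [hypForm_apply] at this
      simp only [mul_zero, map_zero, zero_add] at this
      have h3 := (pow_eq_zero_iff hq0).mp this
      rw [← pow_mul] at h3
      have e : q ^ (2 * k - 1) * q = q ^ (2 * k) := by
        rw [← pow_succ]; congr 1; omega
      rwa [e, pow_card_L2 hF L hL] at h3
    exact Prod.ext h1 h2
  constructor
  · exact hleft
  · intro w hw
    apply hleft
    intro v
    have : (sigma hF) (hypForm hF L w v) = hypForm hF L v w := (hypForm_isSymm hF L).eq w v
    rw [hw v] at this
    exact (map_eq_zero (sigma hF)).mp this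

omit [Fintype F] in
include hL in
theorem finrank_LL : Module.finrank F (L × L) = 2 * k := by
  rw [Module.finrank_prod, hL, two_mul]

include hL in
/-- coordinates on `L × L` in which the form is the standard hermitian form -/
theorem exists_coord2 (hk : 1 ≤ k) : ∃ φ : (Fin (2 * k) → F) ≃ₗ[F] (L × L), ∀ u v,
    hypForm hF L (φ u) (φ v) = hermForm (2 * k) F q v u := by
  obtain ⟨b, hb⟩ := Cfsg.Agent.Lib.Helper5.HermBasis.exists_orthonormal (sigma_ne_id hF)
    (sigma_sigma hF) (2 * k) (hypForm hF L) (hypForm_isSymm hF L)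
    (hypForm_nondegenerate hF L hL hk) (finrank_LL L hL)
  have hli := Cfsg.Agent.Lib.Helper5.HermBasis.linearIndependent_of_orthonormal
    (hypForm hF L) b hb
  have : Nonempty (Fin (2 * k)) := ⟨⟨0, by omega⟩⟩
  let bas : Module.Basis (Fin (2 * k)) F (L × L) :=
    basisOfLinearIndependentOfCardEqFinrank hli (by rw [finrank_LL L hL]; simp)
  have hbas : ∀ i, bas i = b i := fun i => by
    simp only [bas, coe_basisOfLinearIndependentOfCardEqFinrank]
  refine ⟨bas.equivFun.symm, fun u v => ?_⟩
  rw [Module.Basis.equivFun_symm_apply, Module.Basis.equivFun_symm_apply]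
  simp only [map_sum, LinearMap.map_smulₛₗ, LinearMap.sum_apply, LinearMap.smul_apply, hbas, hb,
    sigma_apply, RingHom.id_apply, smul_eq_mul, mul_ite, mul_one, mul_zero,
    Finset.sum_ite_eq', Finset.mem_univ, if_true]
  unfold hermForm
  rfl

end Cfsg.Agent.Lib.Helper5.HalfTorus2
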