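import Mathlib
import Cfsg.Prelude.Def_Classical
import Cfsg.Agent.Lib.Helper5.HalfTorus2.HypForm

set_option autoImplicit false
open Cfsg

/-! Elements of `PSU_{2k}(q)` of order `o / gcd(o, q + 1)`, for `o` dividing
`(q ^ (2k) - 1) / (q + 1)`. -/

namespace Cfsg.Agent.Lib.Helper5.HalfTorus2

open Cfsg.Agent.Lib.Helper5.HermBridge Cfsg.Agent.Lib.Helper5.Herm
  Cfsg.Agent.Lib.Helper5.HermCenter Cfsg.Agent.Lib.Helper5.SpecSL
  Cfsg.Agent.Lib.Helper5.SpecU3

variable {F : Type*} [Field F] [Fintype F] {q : ℕ} (hF : Fintype.card F = q ^ 2)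
variable (L : Type*) [Field L] [Algebra F L] [Fintype L] {k : ℕ}
  (hL : Module.finrank F L = k)

include hF hL in
theorem norm_pow_q (M : ℕ) (hM : M * (q + 1) = q ^ (2 * k) - 1) (lam : L)
    (h : lam ^ M = 1) : (Algebra.norm F lam) ^ q = Algebra.norm F lam := by
  have hq2 : 2 ≤ q := two_le_q hF
  apply (algebraMap F L).injective
  rw [map_pow, FiniteField.algebraMap_norm_eq_pow, Nat.card_eq_fintype_card,
    Nat.card_eq_fintype_card, card_L2 hF L hL, hF]
  obtain ⟨E, hE⟩ : q ^ 2 - 1 ∣ q ^ (2 * k) - 1 := by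
    rw [pow_mul]; exact Nat.sub_one_dvd_pow_sub_one _ _
  have hq21 : 0 < q ^ 2 - 1 := by
    have : 4 ≤ q ^ 2 := by nlinarith
    omega
  rw [hE, Nat.mul_div_cancel_left _ hq21]
  have hsq : q ^ 2 - 1 = (q - 1) * (q + 1) := by
    have h1 : 1 ≤ q ^ 2 := Nat.one_le_pow _ _ (by omega)
    zify [h1, (show 1 ≤ q by omega)]
    ring
  have hME : M = E * (q - 1) := by
    apply Nat.eq_of_mul_eq_mul_right (show 0 < q + 1 by omega)
    rw [hM, hE, hsq]
    ring
  have hEq : E * q = E + M := by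
    rw [hME]
    obtain ⟨q', rfl⟩ : ∃ q', q = q' + 1 := ⟨q - 1, by omega⟩
    simp only [Nat.add_sub_cancel]
    ring
  rw [← pow_mul, hEq, pow_add, h, mul_one]

include hF hL in
/-- the torus elements, from an extension of degree `k` -/
theorem exists_psu_torus_of_ext (hk : 1 ≤ k) (M : ℕ) (hM : M * (q + 1) = q ^ (2 * k) - 1)
    (o : ℕ) (ho : o ∣ M) :
    ∃ x : Cfsg.PSU (2 * k) F q, orderOf x = o / Nat.gcd o (q + 1) := by
  have hq2 : 2 ≤ q := two_le_q hF
  obtain ⟨φ, hφ⟩ := exists_coord2 hF L hL hk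
  have hMcard : M ∣ Fintype.card L - 1 := by
    rw [card_L2 hF L hL, ← hM]; exact Dvd.intro _ rfl
  obtain ⟨lam, hlam0, hlam⟩ := exists_orderOf_eq (F := L) o (ho.trans hMcard)
  have hlamM : lam ^ M = 1 := by
    obtain ⟨t, ht⟩ := ho
    rw [ht, pow_mul, ← hlam, pow_orderOf_eq_one, one_pow]
  obtain ⟨lam', hlam'⟩ : ∃ lam' : L, lam' = (lam ^ q)⁻¹ := ⟨_, rfl⟩
  have hlamq0 : lam ^ q ≠ 0 := pow_ne_zero _ hlam0
  have hlam'0 : lam' ≠ 0 := by rw [hlam']; exact inv_ne_zero hlamq0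
  have hll : lam ^ q * lam' = 1 := by rw [hlam']; exact mul_inv_cancel₀ hlamq0
  let mul1 : L ≃ₗ[F] L := LinearEquiv.ofLinearMap (Algebra.lmul F L lam) (Algebra.lmul F L lam⁻¹)
    (by ext x; simp [hlam0]) (by ext x; simp [hlam0])
  let mul2 : L ≃ₗ[F] L := LinearEquiv.ofLinearMap (Algebra.lmul F L lam')
    (Algebra.lmul F L lam'⁻¹) (by ext x; simp [hlam'0]) (by ext x; simp [hlam'0])
  let t : (L × L) ≃ₗ[F] (L × L) := LinearEquiv.prodCongr mul1 mul2
  have ht : ∀ v, t v = (lam * v.1, lam' * v.2) := fun v => rfl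
  let g : (Fin (2 * k) → F) ≃ₗ[F] (Fin (2 * k) → F) := (φ.trans t).trans φ.symm
  have hgφ : ∀ w, φ (g w) = t (φ w) := fun w => by
    simp only [g, LinearEquiv.trans_apply, LinearEquiv.apply_symm_apply]
  have hg : ∀ u v, hermForm (2 * k) F q (g u) (g v) = hermForm (2 * k) F q u v := by
    intro u v
    have e1 : ∀ x y : L, (lam * x) ^ q * (lam' * y) = x ^ q * y := by
      intro x y
      rw [mul_pow]
      calc lam ^ q * x ^ q * (lam' * y) = (lam ^ q * lam') * (x ^ q * y) := by ring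
        _ = x ^ q * y := by rw [hll, one_mul]
    rw [← hφ, ← hφ, hgφ, hgφ, hypForm_apply, hypForm_apply, ht, ht]
    simp only [e1]
  obtain ⟨A, hA⟩ := exists_GU_of_isometry (2 * k) g hg
  obtain ⟨Mt, hMt⟩ : ∃ Mt : Matrix (Fin (2 * k)) (Fin (2 * k)) F,
      Mt = ((A : Matrix.GeneralLinearGroup (Fin (2 * k)) F) :
        Matrix (Fin (2 * k)) (Fin (2 * k)) F) := ⟨_, rfl⟩
  rw [← hMt] at hA
  have hU : IsU q Mt := by rw [hMt]; exact (mem_GU_iff' hF A.1).mp A.2
  have hdet : Mt.det = 1 := by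
    have e1 : Matrix.toLin' Mt = (g : (Fin (2 * k) → F) →ₗ[F] (Fin (2 * k) → F)) :=
      LinearMap.ext (fun v => by rw [Matrix.toLin'_apply]; exact hA v)
    have e2 : (g : (Fin (2 * k) → F) →ₗ[F] (Fin (2 * k) → F)) =
        (φ.symm : (L × L) →ₗ[F] (Fin (2 * k) → F)) ∘ₗ
          (LinearMap.prodMap (Algebra.lmul F L lam) (Algebra.lmul F L lam')) ∘ₗ
          (φ.symm.symm : (Fin (2 * k) → F) →ₗ[F] (L × L)) := by
      ext v : 1
      rfl
    rw [← LinearMap.det_toLin', e1, e2, LinearMap.det_conj, LinearMap.det_prodMap,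
      ← Algebra.norm_apply, ← Algebra.norm_apply]
    have h1 := congrArg (Algebra.norm F) hll
    rw [map_mul, map_pow, map_one, norm_pow_q hF L hL M hM lam hlamM] at h1
    exact h1
  obtain ⟨x, hx⟩ : ∃ x : ↥(Cfsg.SU (2 * k) F q),
      ((x : Matrix.SpecialLinearGroup (Fin (2 * k)) F) :
        Matrix (Fin (2 * k)) (Fin (2 * k)) F) = Mt :=
    ⟨⟨⟨Mt, hdet⟩, (mem_SU_iff hF _).mpr hU⟩, rfl⟩
  have hpow : ∀ (j : ℕ) (v : Fin (2 * k) → F),
      Matrix.mulVec (Mt ^ j) v = φ.symm (lam ^ j * (φ v).1, lam' ^ j * (φ v).2) := by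
    intro j
    induction j with
    | zero => intro v; simp
    | succ i ih =>
      intro v
      rw [pow_succ, ← Matrix.mulVec_mulVec, hA, ih, hgφ, ht, pow_succ, pow_succ, mul_assoc,
        mul_assoc]
  have hord : orderOf (lam ^ (q + 1)) = o / Nat.gcd o (q + 1) := by
    rw [orderOf_pow' lam (show q + 1 ≠ 0 by omega), hlam]
  have hkey : ∀ j : ℕ, ((x : Cfsg.PSU (2 * k) F q)) ^ j = 1 → o / Nat.gcd o (q + 1) ∣ j := by
    intro j hj
    obtain ⟨z, hz⟩ := (mk_pow_eq_one_iff_SU hF x j).mp hj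
    rw [hx] at hz
    have h1 : lam ^ j = algebraMap F L z := by
      have := hpow j (φ.symm (1, 0))
      rw [hz, Matrix.smul_mulVec, Matrix.one_mulVec, LinearEquiv.apply_symm_apply] at this
      have h2 := congrArg φ this
      rw [LinearEquiv.apply_symm_apply, map_smul, LinearEquiv.apply_symm_apply] at h2
      have h3 := congrArg Prod.fst h2
      simp only [Prod.smul_fst, mul_one] at h3
      rw [← h3, Algebra.algebraMap_eq_smul_one]
    have h2 : lam' ^ j = algebraMap F L z := by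
      have := hpow j (φ.symm (0, 1))
      rw [hz, Matrix.smul_mulVec, Matrix.one_mulVec, LinearEquiv.apply_symm_apply] at this
      have h2 := congrArg φ this
      rw [LinearEquiv.apply_symm_apply, map_smul, LinearEquiv.apply_symm_apply] at h2
      have h3 := congrArg Prod.snd h2
      simp only [Prod.smul_snd, mul_one] at h3
      rw [← h3, Algebra.algebraMap_eq_smul_one]
    have h3 : (lam ^ (q + 1)) ^ j = 1 := by
      calc (lam ^ (q + 1)) ^ j = lam ^ j * (lam ^ q) ^ j := by ring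
        _ = lam' ^ j * (lam ^ q) ^ j := by rw [h1, h2]
        _ = (lam ^ q * lam') ^ j := by ring
        _ = 1 := by rw [hll, one_pow]
    rw [← hord]
    exact orderOf_dvd_of_pow_eq_one h3
  have hdvd := hkey (orderOf (x : Cfsg.PSU (2 * k) F q)) (pow_orderOf_eq_one _)
  exact ⟨_, orderOf_pow_orderOf_div (orderOf_pos _).ne' hdvd⟩

include hF in
/-- the torus elements of `PSU_{2k}(q)` -/
theorem exists_psu_torus (p : ℕ) [Fact p.Prime] [CharP F p] (k : ℕ) (hk : 1 ≤ k) (M : ℕ)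
    (hM : M * (q + 1) = q ^ (2 * k) - 1) (o : ℕ) (ho : o ∣ M) :
    ∃ x : Cfsg.PSU (2 * k) F q, orderOf x = o / Nat.gcd o (q + 1) := by
  have : NeZero k := ⟨by omega⟩
  have : Fintype (FiniteField.Extension F p k) := Fintype.ofFinite _
  exact exists_psu_torus_of_ext hF (FiniteField.Extension F p k)
    (FiniteField.finrank_extension F p k) hk M hM o ho

end Cfsg.Agent.Lib.Helper5.HalfTorus2
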