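import Mathlib
import Cfsg.Agent.Lib.Helper5.HalfTorus2.Arith

set_option autoImplicit false

/-! Primitive prime divisors and the order of `-q`. -/

namespace Cfsg.Agent.Lib.Helper5.HalfTorus2

theorem int_dvd_neg_pow_even (r q j : ℕ) (hq : 1 ≤ q) (hj : Even j) :
    (r : ℤ) ∣ (-(q : ℤ)) ^ j - 1 ↔ r ∣ q ^ j - 1 := by
  have h1 : 1 ≤ q ^ j := Nat.one_le_pow _ _ hq
  have h2 : (-(q : ℤ)) ^ j - 1 = ((q ^ j - 1 : ℕ) : ℤ) := by
    rw [hj.neg_pow, Nat.cast_sub h1]
    push_cast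
    rfl
  rw [h2, Int.natCast_dvd_natCast]

theorem int_dvd_neg_pow_odd (r q j : ℕ) (hj : Odd j) :
    (r : ℤ) ∣ (-(q : ℤ)) ^ j - 1 ↔ r ∣ q ^ j + 1 := by
  have h2 : (-(q : ℤ)) ^ j - 1 = -((q ^ j + 1 : ℕ) : ℤ) := by
    rw [hj.neg_pow]
    push_cast
    ring
  rw [h2, dvd_neg, Int.natCast_dvd_natCast]

theorem dvd_pow_two_mul_of_add_one (r q j : ℕ) (hq : 1 ≤ q) (h : r ∣ q ^ j + 1) :
    r ∣ q ^ (2 * j) - 1 := by
  rw [pow_two_mul_sub_one q j hq]
  exact Dvd.dvd.mul_left h _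

theorem add_one_dvd_pow_two_mul_sub_one (q k : ℕ) (hq : 1 ≤ q) : q + 1 ∣ q ^ (2 * k) - 1 := by
  have h2 : q ^ 2 - 1 ∣ (q ^ 2) ^ k - 1 := Nat.sub_one_dvd_pow_sub_one _ _
  have h3 : q + 1 ∣ q ^ 2 - 1 := by
    refine ⟨q - 1, ?_⟩
    have : 1 ≤ q ^ 2 := Nat.one_le_pow _ _ hq
    zify [this, hq]
    ring
  rw [pow_mul]
  exact h3.trans h2

theorem hnd_of_ppd_even (r q k : ℕ) (hr : r.Prime) (hq : 2 ≤ q) (hk : Even k) (hk0 : 0 < k)
    (hr1 : r ∣ q ^ (2 * k) - 1) (hr2 : ∀ j, 0 < j → j < 2 * k → ¬ r ∣ q ^ j - 1) :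
    r ∣ q ^ k + 1 ∧ ∀ j, 1 ≤ j → j ≤ 2 * k - 1 → ¬ (r : ℤ) ∣ (-(q : ℤ)) ^ j - 1 := by
  constructor
  · rw [pow_two_mul_sub_one q k (by omega)] at hr1
    rcases (Nat.Prime.dvd_mul hr).mp hr1 with h | h
    · exact absurd h (hr2 k hk0 (by omega))
    · exact h
  · intro j hj1 hj2 hdvd
    rcases Nat.even_or_odd j with hje | hjo
    · rw [int_dvd_neg_pow_even r q j (by omega) hje] at hdvd
      exact hr2 j (by omega) (by omega) hdvd
    · rw [int_dvd_neg_pow_odd r q j hjo] at hdvd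
      have h1 := dvd_pow_two_mul_of_add_one r q j (by omega) hdvd
      have h2 := Nat.dvd_gcd h1 hr1
      rw [Nat.pow_sub_one_gcd_pow_sub_one, Nat.gcd_mul_left] at h2
      have hd : Nat.gcd j k ∣ k := Nat.gcd_dvd_right _ _
      have hd' : Nat.gcd j k ∣ j := Nat.gcd_dvd_left _ _
      have hdpos : 0 < Nat.gcd j k := Nat.gcd_pos_of_pos_right _ hk0
      have hdle : Nat.gcd j k ≤ k := Nat.le_of_dvd hk0 hd
      have hdne : Nat.gcd j k ≠ k := by
        intro h
        rw [h] at hd'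
        obtain ⟨k', hk'⟩ := hk
        obtain ⟨j', hj'⟩ := hjo
        obtain ⟨c, hc⟩ := hd'
        rw [hk'] at hc
        have : j = 2 * (k' * c) := by rw [hc]; ring
        omega
      exact hr2 (2 * Nat.gcd j k) (by omega) (by omega) h2

theorem hnd_of_ppd_odd (r q k : ℕ) (hr : r.Prime) (hq : 2 ≤ q) (hqodd : Odd q) (hk : Odd k)
    (hk3 : 3 ≤ k) (hr1 : r ∣ q ^ k - 1) (hr2 : ∀ j, 0 < j → j < k → ¬ r ∣ q ^ j - 1) :
    r ∣ q ^ (2 * k) - 1 ∧ ∀ j, 1 ≤ j → j ≤ 2 * k - 1 → ¬ (r : ℤ) ∣ (-(q : ℤ)) ^ j - 1 := by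
  constructor
  · rw [pow_two_mul_sub_one q k (by omega)]
    exact Dvd.dvd.mul_right hr1 _
  · intro j hj1 hj2 hdvd
    have hk0 : 0 < k := by omega
    rcases Nat.even_or_odd j with hje | hjo
    · rw [int_dvd_neg_pow_even r q j (by omega) hje] at hdvd
      have h2 := Nat.dvd_gcd hdvd hr1
      rw [Nat.pow_sub_one_gcd_pow_sub_one] at h2
      have hd : Nat.gcd j k ∣ k := Nat.gcd_dvd_right _ _
      have hd' : Nat.gcd j k ∣ j := Nat.gcd_dvd_left _ _
      have hdpos : 0 < Nat.gcd j k := Nat.gcd_pos_of_pos_right _ hk0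
      have hdle : Nat.gcd j k ≤ k := Nat.le_of_dvd hk0 hd
      have hdne : Nat.gcd j k ≠ k := by
        intro h
        rw [h] at hd'
        obtain ⟨k', hk'⟩ := hk
        obtain ⟨j', hj'⟩ := hje
        obtain ⟨c, hc⟩ := hd'
        -- `j = k * c` is even and `k` is odd, so `c` is even and `j ≥ 2 k`
        rcases Nat.even_or_odd c with ⟨c', hc'⟩ | ⟨c', hc'⟩
        · rcases Nat.eq_zero_or_pos c' with h0 | h0
          · rw [hc', h0] at hc; omega
          · have : 2 * k ≤ j := by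
              rw [hc, hc']
              nlinarith
            omega
        · have : j = 2 * (2 * k' * c' + k' + c') + 1 := by rw [hc, hk', hc']; ring
          omega
      exact hr2 (Nat.gcd j k) hdpos (by omega) h2
    · rw [int_dvd_neg_pow_odd r q j hjo] at hdvd
      have h1 := dvd_pow_two_mul_of_add_one r q j (by omega) hdvd
      have h2 := Nat.dvd_gcd h1 hr1
      rw [Nat.pow_sub_one_gcd_pow_sub_one] at h2
      have hd : Nat.gcd (2 * j) k ∣ k := Nat.gcd_dvd_right _ _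
      have hd' : Nat.gcd (2 * j) k ∣ 2 * j := Nat.gcd_dvd_left _ _
      have hdpos : 0 < Nat.gcd (2 * j) k := Nat.gcd_pos_of_pos_right _ hk0
      have hdle : Nat.gcd (2 * j) k ≤ k := Nat.le_of_dvd hk0 hd
      rcases Nat.lt_or_ge (Nat.gcd (2 * j) k) k with hlt | hge
      · exact hr2 _ hdpos hlt h2
      · have heq : Nat.gcd (2 * j) k = k := by omega
        rw [heq] at hd'
        have hcop : Nat.Coprime k 2 := by
          rw [Nat.coprime_two_right]; exact hk
        have hkj : k ∣ j := hcop.dvd_of_dvd_mul_left hd'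
        obtain ⟨c, hc⟩ := hkj
        have hc1 : c = 1 := by
          rcases Nat.lt_or_ge c 2 with h | h
          · rcases Nat.eq_zero_or_pos c with h0 | h0
            · rw [h0] at hc; omega
            · omega
          · have : 2 * k ≤ j := by rw [hc]; nlinarith
            omega
        rw [hc1, mul_one] at hc
        rw [hc] at hdvd
        have h3 : r ∣ 2 := by
          have := Nat.dvd_sub hdvd hr1
          have hqk : 1 ≤ q ^ k := Nat.one_le_pow _ _ (by omega)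
          have e : q ^ k + 1 - (q ^ k - 1) = 2 := by omega
          rwa [e] at this
        have hr2' : r = 2 := (Nat.prime_dvd_prime_iff_eq hr Nat.prime_two).mp h3
        apply hr2 1 (by omega) (by omega)
        rw [hr2', pow_one]
        obtain ⟨t, ht⟩ := hqodd
        exact ⟨t, by omega⟩

end Cfsg.Agent.Lib.Helper5.HalfTorus2
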