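import Mathlib
import Cfsg.Prelude.Def_Classical
import Cfsg.Agent.Lib.Helper5.HalfTorus2.PPD
import Cfsg.Agent.Lib.Helper5.HalfTorus2.Descent
import Cfsg.Agent.Lib.Helper5.HalfTorus2.HypTorus
import Cfsg.Agent.Lib.Helper2.Zsigmondy

set_option autoImplicit false
open Cfsg

/-! `PSU_n(q)`, `q` odd, `n = 2k ≥ 4`: an element of order `q ^ k + (-1) ^ k` exists iff
`v₂(q + 1) < v₂(n)`. -/

namespace Cfsg.Agent.Lib.Helper5.HalfTorus2

open Cfsg.Agent.Lib.Helper5.Herm

theorem psu_half_torus {F : Type*} [Field F] [Fintype F] {q : ℕ} (hF : Fintype.card F = q ^ 2)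
    (hodd : Odd q) {n : ℕ} (hn : 4 ≤ n) (heven : Even n) :
    (∃ g : Cfsg.PSU n F q,
        orderOf g = if Even (n / 2) then q ^ (n / 2) + 1 else q ^ (n / 2) - 1) ↔
      padicValNat 2 (q + 1) < padicValNat 2 n := by
  obtain ⟨p, e, hp, hcp, hq⟩ := exists_char_pow hF
  have hpF : Fact p.Prime := ⟨hp⟩
  have hq2 : 2 ≤ q := two_le_q hF
  obtain ⟨k, hk⟩ := heven
  have hn2k : n = 2 * k := by omega
  subst hn2k
  have hk2 : 2 ≤ k := by omega
  have hdiv : 2 * k / 2 = k := Nat.mul_div_cancel_left k (by norm_num)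
  rw [hdiv]
  obtain ⟨M, hM'⟩ := add_one_dvd_pow_two_mul_sub_one q k (by omega)
  have hM : M * (q + 1) = q ^ (2 * k) - 1 := by rw [hM', mul_comm]
  have hpq : p ∣ q := by
    rw [hq]
    have he : e ≠ 0 := by
      rintro rfl
      rw [pow_zero] at hq
      omega
    exact dvd_pow_self p he
  constructor
  · rintro ⟨g, hg⟩
    -- a primitive prime divisor
    have hex : ∃ r : ℕ, r.Prime ∧ r ∣ orderOf g ∧ r ∣ q ^ (2 * k) - 1 ∧ ¬ r ∣ q ∧
        ∀ j, 1 ≤ j → j ≤ 2 * k - 1 → ¬ (r : ℤ) ∣ (-(q : ℤ)) ^ j - 1 := by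
      by_cases hke : Even k
      · rw [if_pos hke] at hg
        obtain ⟨r, hr, hr1, hr2⟩ := Cfsg.Agent.Lib.Helper2.Zsig.zsigmondy q (2 * k) (by omega)
          (by omega) (by
            rintro ⟨h1, -⟩
            obtain ⟨t, ht⟩ := hodd
            omega) (by
            rintro ⟨h1, -⟩
            omega)
        obtain ⟨h3, h4⟩ := hnd_of_ppd_even r q k hr hq2 hke (by omega) hr1 hr2
        refine ⟨r, hr, by rw [hg]; exact h3, hr1, ?_, h4⟩
        intro h
        have h5 : r ∣ q ^ k := Dvd.dvd.mul_left h (q ^ (k - 1)) |> fun h' => by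
          have e1 : q ^ (k - 1) * q = q ^ k := by rw [← pow_succ]; congr 1; omega
          rwa [e1] at h'
        have h6 := (Nat.dvd_add_right h5).mp h3
        exact hr.one_lt.ne' (Nat.dvd_one.mp h6)
      · rw [if_neg hke] at hg
        have hko : Odd k := Nat.not_even_iff_odd.mp hke
        have hk3 : 3 ≤ k := by
          obtain ⟨t, ht⟩ := hko
          omega
        obtain ⟨r, hr, hr1, hr2⟩ := Cfsg.Agent.Lib.Helper2.Zsig.zsigmondy q k (by omega)
          (by omega) (by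
            rintro ⟨h1, -⟩
            obtain ⟨t, ht⟩ := hodd
            omega) (by
            rintro ⟨h1, -⟩
            omega)
        obtain ⟨h3, h4⟩ := hnd_of_ppd_odd r q k hr hq2 hodd hko hk3 hr1 hr2
        refine ⟨r, hr, by rw [hg]; exact hr1, h3, ?_, h4⟩
        intro h
        have h5 : r ∣ q ^ k := Dvd.dvd.mul_left h (q ^ (k - 1)) |> fun h' => by
          have e1 : q ^ (k - 1) * q = q ^ k := by rw [← pow_succ]; congr 1; omega
          rwa [e1] at h'
        have hqk : 1 ≤ q ^ k := Nat.one_le_pow _ _ (by omega)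
        have h6 : r ∣ q ^ k - (q ^ k - 1) := Nat.dvd_sub h5 hr1
        have e2 : q ^ k - (q ^ k - 1) = 1 := by omega
        rw [e2] at h6
        exact hr.one_lt.ne' (Nat.dvd_one.mp h6)
    obtain ⟨r, hr, hrg, hrn, hrq, hnd⟩ := hex
    have hrp : r ≠ p := by
      rintro rfl
      exact hrq hpq
    obtain ⟨o, ho, hog⟩ := orderOf_psu_of_ppd hF p (by omega) ⟨k, by ring⟩ g r hr hrp hrg hnd
      hrn M hM
    rw [hg] at hog
    exact nonexist_arith q k o hodd (by omega) (by omega) M hM ho hog.symm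
  · intro h
    obtain ⟨hke, o, ho, hoN⟩ := exist_arith q k hodd (by omega) (by omega) M hM h
    obtain ⟨x, hx⟩ := exists_psu_torus hF p k (by omega) M hM o ho
    exact ⟨x, by rw [if_pos hke, hx, hoN]⟩

end Cfsg.Agent.Lib.Helper5.HalfTorus2
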